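import Groth.Agent.CohDual.SmoothEquidim
import Groth.Agent.LocalDim.Closure
import Groth.Prelude.Def_Flat
import Mathlib.RingTheory.QuasiFinite.Basic

/-!
# Local dimension of a scheme smooth of relative dimension `n` over a field, fibre dimension
-/

set_option autoImplicit false
set_option linter.style.haveILetI false

universe u

open CategoryTheory Limits AlgebraicGeometry TopologicalSpace

namespace Groth.Agent.SmoothFibreDim

theorem ringKrullDim_le_of_quasiFinite (R S : Type u) [CommRing R] [CommRing S] [Algebra R S]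
    [Algebra.QuasiFinite R S] : ringKrullDim S ≤ ringKrullDim R :=
  Order.krullDim_le_of_strictMono (PrimeSpectrum.comap (algebraMap R S)) fun P Q h => by
    refine lt_of_le_of_ne (Ideal.comap_mono h.le) fun e => h.ne (PrimeSpectrum.ext ?_)
    exact Algebra.QuasiFinite.eq_of_le_of_under_eq (R := R) P.asIdeal Q.asIdeal h.le (congrArg PrimeSpectrum.asIdeal e)

theorem localDim_le {k : Type u} [Field k] {X : Scheme.{u}} (f : X ⟶ Spec (CommRingCat.of k)) (n : ℕ)
    [SmoothOfRelativeDimension n f] (x : X) : FlatMor.localDim X x ≤ (n : WithBot ℕ∞) := by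
  obtain ⟨U, hU, V, hV, hxV, e, h⟩ := SmoothOfRelativeDimension.exists_isStandardSmoothOfRelativeDimension (n := n) (f := f) x
  obtain ⟨gP, -, hgP⟩ := h.exists_etale_mvPolynomial
  let := gP.toAlgebra
  haveI : Algebra.Etale (MvPolynomial (Fin n) Γ(Spec (CommRingCat.of k), U)) Γ(X, V) := hgP
  have hUtop : U = ⊤ := by
    haveI : Subsingleton ↥(Spec (CommRingCat.of k)) := inferInstanceAs (Subsingleton (PrimeSpectrum k))
    exact TopologicalSpace.Opens.ext (Set.eq_univ_of_forall fun z => Subsingleton.elim (f x) z ▸ e hxV)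
  have hfield : IsField Γ(Spec (CommRingCat.of k), U) := by
    subst hUtop
    exact MulEquiv.isField (Field.toIsField k) (Scheme.ΓSpecIso (CommRingCat.of k)).commRingCatIsoToRingEquiv.toMulEquiv
  letI : Field Γ(Spec (CommRingCat.of k), U) := hfield.toField
  haveI : Algebra.QuasiFinite (MvPolynomial (Fin n) Γ(Spec (CommRingCat.of k), U)) Γ(X, V) := inferInstance
  calc FlatMor.localDim X x ≤ topologicalKrullDim (V : Set X) := iInf_le (fun U : {U : TopologicalSpace.Opens X // x ∈ U} => topologicalKrullDim (U.1 : Set X)) ⟨V, hxV⟩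
    _ = topologicalKrullDim ↥(Spec Γ(X, V)) := IsHomeomorph.topologicalKrullDim_eq _ hV.isoSpec.hom.homeomorph.isHomeomorph
    _ = ringKrullDim Γ(X, V) := PrimeSpectrum.topologicalKrullDim_eq_ringKrullDim _
    _ ≤ ringKrullDim (MvPolynomial (Fin n) Γ(Spec (CommRingCat.of k), U)) := ringKrullDim_le_of_quasiFinite _ _
    _ = n := by rw [MvPolynomial.ringKrullDim_of_isNoetherianRing, ringKrullDim_eq_zero_of_field, zero_add, Nat.card_fin]

theorem le_localDim {k : Type u} [Field k] {X : Scheme.{u}} (f : X ⟶ Spec (CommRingCat.of k)) (n : ℕ)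
    [SmoothOfRelativeDimension n f] (x : X) : (n : WithBot ℕ∞) ≤ FlatMor.localDim X x := by
  haveI : Smooth f := SmoothOfRelativeDimension.smooth n f
  rw [LocalDim.localDim_eq_stalk_add_closure f x]
  obtain ⟨hh, a, n', -, ha, -⟩ := CohDual.DimFormula.exists_dim_eq f x
  have h0 : (0 : WithBot ℕ∞) ≤ ringKrullDim (X.presheaf.stalk x) := ringKrullDim_nonneg_of_nontrivial
  rw [ha]
  rcases le_or_gt n a with hna | hna
  · exact le_add_of_nonneg_of_le h0 (by exact_mod_cast hna)
  · have := CohDual.SmoothEquidim.natCast_le_ringKrullDim_smooth f n x (n - a) (by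
      rw [ha, ← Nat.cast_add, Nat.cast_le]; omega)
    calc (n : WithBot ℕ∞) = ((n - a : ℕ) : WithBot ℕ∞) + (a : WithBot ℕ∞) := by
          rw [← Nat.cast_add, Nat.cast_inj]; omega
      _ ≤ _ := by gcongr

theorem localDim_eq {k : Type u} [Field k] {X : Scheme.{u}} (f : X ⟶ Spec (CommRingCat.of k)) (n : ℕ)
    [SmoothOfRelativeDimension n f] (x : X) : FlatMor.localDim X x = (n : WithBot ℕ∞) :=
  le_antisymm (localDim_le f n x) (le_localDim f n x)

theorem fibreDimAt_eq {X Y : Scheme.{u}} (f : X ⟶ Y) (n : ℕ)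
    [SmoothOfRelativeDimension n f] (x : X) : FlatMor.fibreDimAt f x = (n : WithBot ℕ∞) := by
  have hs : SmoothOfRelativeDimension n (f.fiberToSpecResidueField (f x)) := by
    haveI : MorphismProperty.IsStableUnderBaseChange (@SmoothOfRelativeDimension.{u} n) :=
      smoothOfRelativeDimension_isStableUnderBaseChange n
    exact (smoothOfRelativeDimension_isStableUnderBaseChange n).of_isPullback
      (IsPullback.of_hasPullback f (Y.fromSpecResidueField (f x))) ‹SmoothOfRelativeDimension n f›
  exact @localDim_eq (Y.residueField (f x)) _ (f.fiber (f x)) (f.fiberToSpecResidueField (f x)) n hs (f.asFiber x)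

end Groth.Agent.SmoothFibreDim
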